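import Groth.Agent.Lib.Ref1.Class
import Groth.Agent.Lib.Ref1.Bidual
import Groth.Agent.Lib.Ref1.Powers
import Groth.Agent.Lib.FacDiv.Invertible
import Groth.Agent.Lib.RegUFD.Basic
import Groth.Agent.Lib.TFCurv11.NodePush
import Groth.Agent.Lib.DualTF27.Proj
import Groth.Agent.Lib.ProjPic26.Main
import Groth.Agent.Lib.CMReg.HilbDegree
import Groth.Agent.Lib.MumReg5.Main
import Groth.Agent.Lib.CI20.Seq
import Groth.Agent.Lib.CBExt28.Transfer
import Groth.Agent.Lib.CMReg.NegGrowth
import Groth.Agent.Lib.CohAmple24.Dim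
import Groth.Agent.Lib.HilbArt9.Main
import Groth.Agent.Lib.RefK12.Top
import Groth.Agent.Lib.LineFlag12.H0
import Groth.Agent.Lib.JumpPts28.Plane

/-!
# Closed subschemes with the Hilbert polynomial of a hypersurface
-/

set_option autoImplicit false
set_option linter.all false
set_option maxHeartbeats 1600000
set_option backward.isDefEq.respectTransparency false

universe u

open CategoryTheory CategoryTheory.Limits AlgebraicGeometry TopologicalSpace
open GrothLib.CMReg (Ft)
open GrothLib.Snapper (DimLT)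
open GrothLib.QCoh (stalkLin)
open GrothLib.Ref1 (sp spR hη Gen)

noncomputable section

namespace GrothLib.HilbHyp28

theorem fwdDiff_choose_add (c : ℤ) (r : ℕ) : ∀ j ≤ r,
    (fwdDiff (1 : ℕ))^[j] (fun a : ℕ => ((Ring.choose ((a : ℤ) + c) r : ℤ) : ℚ)) =
      fun a : ℕ => ((Ring.choose ((a : ℤ) + c) (r - j) : ℤ) : ℚ) := by
  intro j
  induction j with
  | zero => intro _; rfl
  | succ j ih =>
    intro hj
    rw [Function.iterate_succ_apply', ih (by omega)]
    funext a
    rw [fwdDiff, show r - j = (r - (j + 1)) + 1 by omega]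
    push_cast
    rw [show ((a : ℤ) + 1 + c) = ((a : ℤ) + c) + 1 by ring, Ring.choose_succ_succ]
    push_cast
    ring

theorem eq_of_polynomial {r : ℕ} (hr : 1 ≤ r) {c c' : ℤ} {Q : Polynomial ℚ} (hQ : Q.degree < ((r - 1 : ℕ) : WithBot ℕ))
    (h : ∀ a : ℕ, ((Ring.choose ((a : ℤ) + c) r : ℤ) : ℚ) - ((Ring.choose ((a : ℤ) + c') r : ℤ) : ℚ) = Q.eval (a : ℚ)) :
    c = c' := by
  have h0 : (fwdDiff (1 : ℕ))^[r - 1] (fun a : ℕ => Q.eval (a : ℚ)) = 0 := by
    rcases eq_or_ne Q 0 with rfl | hQ0
    · have hz : (fun a : ℕ => (0 : Polynomial ℚ).eval (a : ℚ)) = (0 : ℚ) • fun _ : ℕ => (0 : ℚ) := by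
        funext a; simp
      rw [hz, fwdDiff_iter_const_smul, zero_smul]
    · have hd : Q.natDegree < r - 1 := (Polynomial.natDegree_lt_iff_degree_lt hQ0).2 hQ
      funext a
      have h1 := congrFun (Polynomial.fwdDiff_iter_eq_zero_of_degree_lt (R := ℚ) hd) (a : ℚ)
      rw [fwdDiff_iter_eq_sum_shift] at h1 ⊢
      rw [Pi.zero_apply] at h1 ⊢
      rw [← h1]
      refine Finset.sum_congr rfl fun i _ => ?_
      simp [nsmul_eq_mul]
  have h2 : (fun a : ℕ => Q.eval (a : ℚ)) =
      (fun a : ℕ => ((Ring.choose ((a : ℤ) + c) r : ℤ) : ℚ)) +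
        (-1 : ℚ) • fun a : ℕ => ((Ring.choose ((a : ℤ) + c') r : ℤ) : ℚ) := by
    funext a
    rw [← h a, Pi.add_apply, Pi.smul_apply, smul_eq_mul]
    ring
  rw [h2, fwdDiff_iter_add, fwdDiff_iter_const_smul, fwdDiff_choose_add c r _ (by omega),
    fwdDiff_choose_add c' r _ (by omega)] at h0
  have h3 := congrFun h0 0
  simp only [Pi.add_apply, Pi.smul_apply, smul_eq_mul, Pi.zero_apply, show r - (r - 1) = 1 by omega,
    Ring.choose_one_right] at h3
  push_cast at h3
  exact_mod_cast (show ((c : ℤ) : ℚ) = c' by linarith)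

variable {k : Type u} [Field k] {r : ℕ}

local notation "PP" => CohB1.ProjSpace r k

/-- A coherent module with vanishing Euler characteristics of twists is zero. -/
theorem isZero_of_euler {F : (PP).Modules} (hF : Coh.IsCoh F)
    (h : ∀ a : ℕ, Curv2.euler k PP (Ft F a) = 0) : IsZero F := by
  classical
  by_contra hne
  have hS : (CohB1.support F).Nonempty := by
    by_contra hn
    exact hne (HilbArt9.isZero_of_support_empty fun x hx => hn ⟨x, hx⟩)
  haveI : IsProper (PP ↘ Spec (CommRingCat.of k)) := Chow.isProper_toSpec r k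
  have hd := CMReg.supportDim_eq_natDegree hF hS 0 (fun a => by rw [h a]; simp)
  rw [Polynomial.natDegree_zero] at hd
  have hSc := QCoh.isClosed_support_of_isCoh hF
  obtain ⟨x, hx⟩ := hS
  have hdl : DimLT (CohB1.support F) 1 := Snapper.dimLT_of_dim_le (d := 0) hd.le
  have htop : Snapper.IsTop 0 x := by
    refine Snapper.isTop_of (hdl.mono (closure_minimal (Set.singleton_subset_iff.2 hx) hSc)) fun hh => ?_
    exact Nat.not_lt_zero _ (hh (RelSeries.singleton _ x) fun _ => subset_closure rfl)
  have hL := CMReg.isInvertible_twist (n := r) (k := k) 1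
  have hpos := Snapper.mixed_pos k 0 PP (Twist.twistProjSpace r k 1) (Ample.isAmple_twistProjSpace_one r k) F hF hdl
    ⟨x, hx, htop⟩
  obtain ⟨c, hc⟩ := Snapper.exists_lead (Snapper.phi_mem_polyLT k (r := 1) (L := fun _ => Twist.twistProjSpace r k 1)
    (fun _ => hL) 1 F hF hdl)
  have hmix := Snapper.mixed_comp_sumArg hc
  rw [← Snapper.phi_const_comp k (Twist.twistProjSpace r k 1) F 0] at hmix
  obtain ⟨Q, hQ, hQg⟩ := CMReg.exists_polynomial_of_mem hc
  have hQ0 : Q = 0 := by
    by_contra hQ0
    rw [Polynomial.degree_eq_natDegree hQ0] at hQ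
    exact Nat.not_lt_zero _ (by exact_mod_cast hQ)
  have hphi : Snapper.phi k 1 (fun _ => Twist.twistProjSpace r k 1) F (fun _ => 0) = 0 := by
    obtain ⟨e⟩ := GrTilde.nonempty_twist_iso_tensorPow (𝒜 := CohB1.polyGrading r k) CMReg.h1 0
    rw [← CMReg.euler_eq_phi (X := PP) k (Twist.twistProjSpace r k 1) F _ 0 e]
    exact_mod_cast h 0
  have hc0 : c = 0 := by
    have := hQg 0
    simp [hQ0, Snapper.mono, hphi] at this
    linarith
  rw [hc0, zero_mul] at hmix
  rw [hmix] at hpos
  exact lt_irrefl _ hpos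

/-- The ideal of a subscheme with the Hilbert polynomial of a hypersurface. -/
theorem nonempty_iso (d : ℕ) (hr : 1 ≤ r) (I : (PP).IdealSheafData)
    (hP : ∀ t : ℤ, Curv2.euler k PP (CohB1.tensorMod (ClSub.quotMod I) (Twist.twistProjSpace r k t)) =
      Ring.choose (t + r) r - Ring.choose (t + r - d) r) :
    Nonempty (ClSub.idealMod I ≅ Twist.twistProjSpace r k (-(d : ℤ))) := by
  classical
  haveI : IsProper (PP ↘ Spec (CommRingCat.of k)) := Chow.isProper_toSpec r k
  haveI : IsNoetherian PP := Euler.isNoetherian_of_proper (X := PP) k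
  haveI : IsIntegral PP := ProjDim.isIntegral_proj k r
  haveI : Smooth (CohB1.ProjSpace.toSpec r k) := CurveMult.smooth_toSpec r k
  have hX : Pi1.IsNormalScheme PP := NodePush11.isNormalScheme_of_smooth (CohB1.ProjSpace.toSpec r k)
  have heuler : ∀ t, Curv2.euler k PP (Twist.twistProjSpace r k t) = Ring.choose (t + r) r := fun t => by
    haveI : (Twist.twistProjSpace r k t).IsQuasicoherent :=
      (Euler.isCoh_of_isInvertible (CMReg.isInvertible_twist (n := r) (k := k) t)).1
    rw [Euler.euler_eq_sum k _ (N := r + 1) fun i hi => CMReg.subsingleton_HH_of_lt _ (by omega)]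
    exact ProjCohom.euler_twist k r hr t
  let F := ClSub.idealMod I
  have hF : Coh.IsCoh F := CBExt28.isCoh_idealMod (X := PP) k I
  haveI := hF.1
  have hO : Coh.IsCoh (Coh.structureModule PP) := Euler.isCoh_of_isInvertible Euler.isInvertible_structure
  have hQI : Coh.IsCoh (ClSub.quotMod I) := Snapper.isCoh_quotMod (X := PP) k I
  -- Euler characteristics of the ideal
  have hFt : ∀ t : ℤ, Curv2.euler k PP (Ft F t) = Ring.choose (t + r - d) r := fun t => by
    obtain ⟨w, hS⟩ := CI20.exists_ses I.subschemeι I I.ker_subschemeι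
    have h1 := JumpPts28.euler_add (k := k) (CMReg.ft_shortExact hS t) rfl rfl rfl
      (CMReg.isCoh_Ft hF t) (CMReg.isCoh_Ft hO t) (CMReg.isCoh_Ft hQI t)
    have h2 : Curv2.euler k PP (Ft (Coh.structureModule PP) t) = Ring.choose (t + r) r :=
      (Euler.euler_of_iso k (OX.tensorUnitLeftIso (Twist.twistProjSpace r k t))).trans (heuler t)
    change Curv2.euler k PP (Ft (Coh.structureModule PP) t) = Curv2.euler k PP (Ft F t) +
      Curv2.euler k PP (Ft (ClSub.quotMod I) t) at h1
    rw [h2, hP t] at h1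
    linarith
  -- stalks
  haveI hmono : Mono (ClSub.idealModι I) := by show Mono (kernel.ι _); exact equalizer.ι_mono
  have hinj : ∀ x, Function.Injective (stalkLin (ClSub.idealModι I) x) := fun x =>
    (ModuleCat.mono_iff_injective ((OX.stalk x).map (ClSub.idealModι I))).1
      ((OX.mono_iff (ClSub.idealModι I)).1 hmono x)
  have hlinE : ∀ {M N : (PP).Modules} (φ : M ⟶ N) x v, RefHull.stalkMapₗ φ x v = stalkLin φ x v :=
    fun φ x v => by rw [Ref1.stalkMapₗ_eq_stalkLin]
  haveI hO' : (Coh.structureModule PP).IsQuasicoherent := hO.1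
  have hspO : ∀ x : PP, Function.Injective (sp (Coh.structureModule PP) (hη x)) := fun x => by
    haveI : Module.IsTorsionFree ((PP).presheaf.stalk x) ((Coh.structureModule PP).presheaf.stalk x) := by
      refine .of_smul_eq_zero fun a v h => or_iff_not_imp_left.2 fun ha => ?_
      obtain ⟨b, rfl⟩ := (HomSh.unitStalk x).surjective v
      rw [← map_smul] at h
      have h' := (HomSh.unitStalk x).injective (h.trans (map_zero _).symm)
      rw [(mul_eq_zero.1 h').resolve_left ha, map_zero]
    exact Ref1.sp_injective (Coh.structureModule PP) x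
  have hspF : ∀ x : PP, Function.Injective (sp F (hη x)) := fun x => by
    rw [injective_iff_map_eq_zero]
    intro v hv
    refine hinj x ((hspO x ?_).trans (map_zero _).symm)
    rw [← hlinE, ← Ref1.stalkMapₗ_sp, hv, map_zero, map_zero]
  -- the ideal is nonzero
  obtain ⟨e, he⟩ : ∃ e, Gen F (genericPoint PP) e := by
    obtain ⟨v, hv⟩ : ∃ v : F.presheaf.stalk (genericPoint PP), v ≠ 0 := by
      by_contra hne
      push Not at hne
      have hz : IsZero F := HilbArt9.isZero_of_support_empty fun x hx => hx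
        (subsingleton_of_forall_eq 0 fun v => hspF x ((hne _).trans (map_zero _).symm))
      have h0 := hFt d
      rw [show Curv2.euler k PP (Ft F d) = 0 from
        Snapper.euler_eq_zero_of_isZero k ((CMReg.ftFun (d : ℤ)).map_isZero hz)] at h0
      rw [show (d : ℤ) + r - d = (r : ℤ) by ring, Ring.choose_natCast, Nat.choose_self] at h0
      simp at h0
    obtain ⟨b, hb⟩ := (HomSh.unitStalk (genericPoint PP)).surjective (stalkLin (ClSub.idealModι I) _ v)
    have hb0 : b ≠ 0 := fun h0 => hv (hinj _ (by rw [← hb, h0, map_zero, map_zero]))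
    have hbu : IsUnit b := Ref1.isUnit_of_ne_zero hb0
    refine ⟨v, fun a a' h => ?_, fun w => ?_⟩
    · have h2 := congrArg (stalkLin (ClSub.idealModι I) (genericPoint PP)) h
      dsimp only at h2
      rw [map_smul, map_smul, ← hb, ← map_smul, ← map_smul] at h2
      exact hbu.mul_right_cancel ((HomSh.unitStalk (genericPoint PP)).injective h2)
    · obtain ⟨a, ha⟩ := (HomSh.unitStalk (genericPoint PP)).surjective (stalkLin (ClSub.idealModι I) _ w)
      refine ⟨a * ↑hbu.unit⁻¹, hinj _ ?_⟩
      dsimp only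
      rw [map_smul, ← hb, ← ha, ← map_smul, smul_eq_mul, mul_assoc, hbu.val_inv_mul, mul_one]
  -- the hull
  have hR := HomSh.hasRel_of_isCoh hF
  have hD := Ref1.isRef1_ddual hR he
  have hDinv : PicF.IsInvertible (RefHull.ddual F) := FacDiv.isInvertible_of_ufd hX hD fun x => by
    haveI := DualTF27.isRegular_projSpace k r x
    exact RegUFD.ufd_of_isRegularLocalRing _
  obtain ⟨m, ⟨eD⟩⟩ := ProjPic26.exists_iso_twist (R := k) (n := r) hDinv
  let φ := RefHull.bidualMap F
  have hgb := Ref1.gen_bidual hR he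
  have hφη : Function.Bijective (RefHull.stalkMapₗ φ (genericPoint PP)) := by
    refine ⟨(injective_iff_map_eq_zero _).2 fun v hv => ?_, fun w => ?_⟩
    · obtain ⟨a, rfl⟩ := he.2 v
      dsimp only at hv ⊢
      rw [map_smul] at hv
      rw [hgb.1 (show a • _ = (0 : (PP).presheaf.stalk (genericPoint PP)) • _ by rw [zero_smul]; exact hv), zero_smul]
    · obtain ⟨a, rfl⟩ := hgb.2 w
      exact ⟨a • e, map_smul _ _ _⟩
  haveI : Mono φ := (OX.mono_iff φ).2 fun x => (ModuleCat.mono_iff_injective _).2 <| by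
    show Function.Injective (stalkLin φ x)
    rw [injective_iff_map_eq_zero]
    intro v hv
    refine hspF x ((hφη.1 ?_).trans (map_zero _).symm)
    rw [Ref1.stalkMapₗ_sp, hlinE, hv, map_zero, map_zero]
  let C := cokernel φ
  have hDc : Coh.IsCoh (RefHull.ddual F) := hD.1
  have hC : Coh.IsCoh C := QCoh.isCoh_cokernel φ hF hDc
  have hdim : topologicalKrullDim ↥PP = (r : WithBot ℕ∞) := LineFlag12.dim_projSpace r
  have hCd : DimLT (CohB1.support C) (r - 1) := by
    intro l hl
    have h2 : (2 : ℕ∞) ≤ Order.coheight (l.last) := by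
      by_contra hlt
      refine QCoh.notMem_support_cokernel_of_surjective φ ?_ (hl (Fin.last _))
      suffices Function.Surjective (RefHull.stalkMapₗ φ l.last) by
        intro w; obtain ⟨v, hv⟩ := this w; exact ⟨v, (hlinE φ _ v).symm.trans hv⟩
      by_cases h0 : Order.coheight l.last = 0
      · have : l.last = genericPoint PP :=
          ((hη l.last).antisymm ((Order.coheight_eq_zero.1 h0) (specializes_iff_mem_closure.2
            ((genericPoint_spec PP).symm ▸ Set.mem_univ l.last)))).eq.symm
        rw [this]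
        exact hφη.2
      · have h1 : Order.coheight l.last = 1 :=
          le_antisymm (ENat.lt_coe_add_one_iff.1 (by exact_mod_cast not_le.1 hlt)) (ENat.one_le_iff_ne_zero.2 h0)
        haveI : IsDiscreteValuationRing ((PP).presheaf.stalk l.last) := by
          refine Ref1.isDiscreteValuationRing_of_dim_one hX ?_
          rw [ringKrullDim_stalk_eq_coheight, h1]
          rfl
        haveI := RefK12.finite_stalk hF l.last
        exact Ref1.bidual_stalk_surjective hR _ (Ref1.bidual_surjective_of_pid _ _)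
    have h3 := CohAmple24.coheight_le_dim r hdim l.head
    have h4 : (l.length : ℕ∞) + 2 ≤ Order.coheight l.head := by
      obtain ⟨p, hp, hp2⟩ := Order.exists_series_of_le_coheight l.last (n := 2) (by exact_mod_cast h2)
      refine le_of_eq_of_le ?_ (Order.length_le_coheight (p := l.smash p hp.symm) (x := l.head) (by simp))
      simp [hp2]
    have h5 : l.length + 2 ≤ r := by exact_mod_cast h4.trans h3
    omega
  -- Euler characteristics of the cokernel
  let S := ShortComplex.mk φ (cokernel.π φ) (cokernel.condition φ)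
  have hS : S.ShortExact := { exact := ShortComplex.exact_cokernel φ }
  have hCt : ∀ t : ℤ, Curv2.euler k PP (Ft C t) = Ring.choose (t + (m + r)) r - Ring.choose (t + r - d) r := fun t => by
    have h1 := JumpPts28.euler_add (k := k) (CMReg.ft_shortExact hS t) rfl rfl rfl
      (CMReg.isCoh_Ft hF t) (CMReg.isCoh_Ft hDc t) (CMReg.isCoh_Ft hC t)
    change Curv2.euler k PP (Ft (RefHull.ddual F) t) = Curv2.euler k PP (Ft F t) +
      Curv2.euler k PP (Ft C t) at h1
    obtain ⟨g⟩ := CMReg.nonempty_twist_add (n := r) (k := k) (rfl : m + t = m + t)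
    have h2 : Curv2.euler k PP (Ft (RefHull.ddual F) t) = Ring.choose (t + (m + r)) r := by
      rw [show t + (m + r) = m + t + r by ring, ← heuler (m + t)]
      exact Euler.euler_of_iso k ((CMReg.ftFun t).mapIso eD ≪≫ g)
    rw [h2, hFt t] at h1
    linarith
  have hL := CMReg.isInvertible_twist (n := r) (k := k) 1
  obtain ⟨Q, hQd, hQ⟩ := CMReg.exists_polynomial_of_mem (Snapper.phi_mem_polyLT k (r := 1)
    (L := fun _ => Twist.twistProjSpace r k 1) (fun _ => hL) (r - 1) C hC hCd)
  have hm : m + r = (r : ℤ) - d := eq_of_polynomial hr hQd fun a => by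
    obtain ⟨e'⟩ := GrTilde.nonempty_twist_iso_tensorPow (𝒜 := CohB1.polyGrading r k) CMReg.h1 a
    rw [← hQ a, ← CMReg.euler_eq_phi (X := PP) k (Twist.twistProjSpace r k 1) C _ a e']
    have := hCt (a : ℤ)
    rw [show ((a : ℤ) + r - d) = (a : ℤ) + ((r : ℤ) - d) by ring] at this
    exact_mod_cast this.symm
  obtain rfl : m = -(d : ℤ) := by omega
  have hz : IsZero C := isZero_of_euler hC fun a => by
    rw [hCt a, show (a : ℤ) + (-(d : ℤ) + r) = (a : ℤ) + r - d by ring, sub_self]
  haveI : Epi φ := Preadditive.epi_of_isZero_cokernel φ hz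
  haveI : IsIso φ := isIso_of_mono_of_epi φ
  exact ⟨asIso φ ≪≫ eD⟩

end GrothLib.HilbHyp28
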